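import Groth.Agent.ZMTBir.Scheme
import Groth.Agent.SpreadFP.Gen

/-!
Birational quasi-finite morphisms to normal integral schemes.
-/

set_option autoImplicit false
set_option linter.style.haveILetI false
universe u

open CategoryTheory AlgebraicGeometry TopologicalSpace

namespace Groth.Agent.BirQF

variable {X Y : Scheme.{u}}

/-- A separated birational locally quasi-finite morphism to a normal scheme is an open immersion. -/
theorem isOpenImmersion_of_birational [IsIntegral X] [IsIntegral Y] (f : X ⟶ Y) [IsSeparated f]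
    [LocallyOfFiniteType f] [LocallyQuasiFinite f]
    (hN : ∀ y : Y, IsIntegrallyClosed (Y.presheaf.stalk y))
    (hbir : IsIso (f.stalkMap (genericPoint X))) : IsOpenImmersion f := by
  have hloc : ∀ x : X, ∃ V : Y.Opens, f x ∈ V ∧ IsIso (f ∣_ V) := fun x ↦
    ZMTBir.exists_isIso_morphismRestrict f (ConcreteCategory.bijective_of_isIso _) x
      (f.quasiFiniteAt x) (hN _)
  choose V hxV hV using hloc
  have himm : ∀ x, IsOpenImmersion ((f ⁻¹ᵁ V x).ι ≫ f) := fun x ↦ by
    haveI := hV x
    rw [← morphismRestrict_ι]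
    infer_instance
  rw [IsOpenImmersion.iff_isIso_stalkMap]
  refine ⟨Topology.IsOpenEmbedding.of_continuous_injective_isOpenMap f.continuous ?_ ?_, fun x ↦ ?_⟩
  · intro p q hpq
    haveI := himm p
    have := ((f ⁻¹ᵁ V p).ι ≫ f).isOpenEmbedding.injective (a₁ := ⟨p, hxV p⟩)
      (a₂ := ⟨q, show f q ∈ V p from hpq ▸ hxV p⟩) hpq
    exact congrArg Subtype.val this
  · intro O hO
    have : f '' O = ⋃ x, ((f ⁻¹ᵁ V x).ι ≫ f) '' ((f ⁻¹ᵁ V x).ι ⁻¹' O) := by
      ext y
      simp only [Set.mem_iUnion, Set.mem_image, Set.mem_preimage]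
      exact ⟨fun ⟨p, hp, hpy⟩ ↦ ⟨p, ⟨p, hxV p⟩, hp, hpy⟩, fun ⟨x, q, hq, hqy⟩ ↦ ⟨_, hq, hqy⟩⟩
    rw [this]
    refine isOpen_iUnion fun x ↦ ?_
    haveI := himm x
    exact ((f ⁻¹ᵁ V x).ι ≫ f).isOpenEmbedding.isOpenMap _ (hO.preimage (f ⁻¹ᵁ V x).ι.continuous)
  · haveI := himm x
    exact SpreadFP.isIso_stalkMap_of_comp f (f ⁻¹ᵁ V x).ι ⟨x, hxV x⟩

/-- An open immersion into an irreducible scheme with closed range is an isomorphism. -/
theorem isIso_of_isClosed_range [Nonempty X] [IrreducibleSpace Y] (f : X ⟶ Y) [IsOpenImmersion f]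
    (h : IsClosed (Set.range f)) : IsIso f := by
  refine SpreadFP.isIso_of_isOpenImmersion_of_surjective f fun y ↦ ?_
  have := (f.isOpenEmbedding.isOpen_range.dense (Set.range_nonempty _)).closure_eq
  rw [h.closure_eq] at this
  exact Set.range_eq_univ.1 this y

/-- A separated birational morphism of finite type with finite fibres to a normal scheme is an
open immersion, and an isomorphism when proper. -/
theorem isOpenImmersion_and_isIso [IsIntegral X] [IsIntegral Y] (f : X ⟶ Y) [IsSeparated f]
    [LocallyOfFiniteType f] [QuasiCompact f]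
    (hN : ∀ y : Y, IsIntegrallyClosed (Y.presheaf.stalk y))
    (hbir : IsIso (f.stalkMap (genericPoint X))) (hfin : ∀ y : Y, (f.base ⁻¹' {y}).Finite) :
    IsOpenImmersion f ∧ (IsProper f → IsIso f) := by
  haveI : LocallyQuasiFinite f := .of_finite_preimage_singleton f hfin
  haveI := isOpenImmersion_of_birational f hN hbir
  exact ⟨inferInstance, fun h ↦ isIso_of_isClosed_range f f.isClosedMap.isClosed_range⟩

/-- In an irreducible space of dimension at most one a non-generic point is closed. -/
theorem eq_of_specializes_of_dim_le_one {T : Type u} [TopologicalSpace T] [IrreducibleSpace T]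
    [QuasiSober T] [T0Space T] (h : topologicalKrullDim T ≤ 1) {p q : T}
    (hp : p ≠ genericPoint T) (hpq : p ⤳ q) : p = q := by
  by_contra hne
  let c : T → IrreducibleCloseds T := fun a ↦
    ⟨closure {a}, isIrreducible_singleton.closure, isClosed_closure⟩
  have hlt : ∀ a b : T, a ⤳ b → a ≠ b → c b < c a := fun a b hab hab' ↦ by
    refine lt_of_le_of_ne ?_ fun he ↦ hab' ?_
    · exact closure_minimal (Set.singleton_subset_iff.2 (specializes_iff_mem_closure.1 hab)) isClosed_closure
    · exact ((inseparable_iff_closure_eq.2 (congrArg (fun Z : IrreducibleCloseds T ↦ (Z : Set T)) he)).eq).symm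
  let s : LTSeries (IrreducibleCloseds T) :=
    ((RelSeries.singleton _ (c q)).snoc (c p) (hlt p q hpq hne)).snoc (c (genericPoint T))
      (by
        simp only [RelSeries.last_snoc]
        exact hlt _ _ (genericPoint_specializes p) (Ne.symm hp))
  have h2 : (s.length : WithBot ℕ∞) ≤ topologicalKrullDim T := Order.LTSeries.length_le_krullDim s
  have h3 := h2.trans h
  simp [s] at h3

end Groth.Agent.BirQF
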