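import Groth.Agent.BirQF.Basic

/-!
Proper birational morphisms to normal schemes are isomorphisms in codimension one.
-/

set_option autoImplicit false
set_option linter.style.haveILetI false
universe u

open CategoryTheory AlgebraicGeometry TopologicalSpace

namespace Groth.Agent.BirQF

/-- A Noetherian normal local domain of dimension at most one is a valuation ring. -/
theorem valuationRing_of_dim_le_one (R : Type u) [CommRing R] [IsDomain R] [IsLocalRing R]
    [IsNoetherianRing R] [IsIntegrallyClosed R] (h : ringKrullDim R ≤ 1) : ValuationRing R := by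
  haveI : Ring.KrullDimLE 1 R := Ring.krullDimLE_iff.2 (by simpa using h)
  have h4 : IsIntegrallyClosed R ∧ ∀ P : Ideal R, P ≠ ⊥ → P.IsPrime → P = IsLocalRing.maximalIdeal R :=
    ⟨inferInstance, fun P hP hP' ↦
      IsLocalRing.eq_maximalIdeal (Ring.krullDimLE_one_iff_of_noZeroDivisors.mp ‹_› P hP hP')⟩
  exact List.TFAE.out (tfae_of_isNoetherianRing_of_isLocalRing_of_isDomain R) 3 1 |>.mp h4

/-- An injective local homomorphism from a valuation ring to a domain that is bijective on fraction
fields is surjective. -/
theorem surjective_of_valuationRing {A B : Type u} [CommRing A] [IsDomain A] [ValuationRing A]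
    [CommRing B] {L : Type u} [Field L] (φ : A →+* B) [IsLocalHom φ] (j : B →+* L)
    (hj : Function.Injective j) {K : Type u} [Field K] [Algebra A K] [IsFractionRing A K]
    (ψ : K →+* L) (hψ : Function.Surjective ψ) (hcomm : ∀ a, ψ (algebraMap A K a) = j (φ a)) :
    Function.Surjective φ := by
  intro b
  obtain ⟨k, hk⟩ := hψ (j b)
  obtain ⟨a, s, hs, rfl⟩ := IsFractionRing.div_surjective (A := A) k
  have hs0 : (s : A) ≠ 0 := nonZeroDivisors.ne_zero hs
  have hL : j b * j (φ s) = j (φ a) := by
    rw [← hk, ← hcomm, ← hcomm, ← map_mul, div_mul_cancel₀]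
    exact (map_ne_zero_iff _ (IsFractionRing.injective A K)).2 hs0
  obtain ⟨c, hc | hc⟩ := ValuationRing.cond a s
  · -- `a * c = s`
    have h1 : j (b * φ c) * j (φ a) = 1 * j (φ a) := by
      rw [map_mul, mul_assoc, ← map_mul j, ← map_mul φ, mul_comm c a, hc, hL, one_mul]
    by_cases ha : a = 0
    · refine ⟨0, hj ?_⟩
      have hz : j b * j (φ s) = 0 := by rw [hL, ha, map_zero, map_zero]
      have hs' : j (φ s) ≠ 0 := by
        rw [← hcomm, map_ne_zero]
        exact (map_ne_zero_iff _ (IsFractionRing.injective A K)).2 hs0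
      rw [map_zero, map_zero, (mul_eq_zero.1 hz).resolve_right hs']
    · have ha' : j (φ a) ≠ 0 := by
        rw [← hcomm, map_ne_zero]
        exact (map_ne_zero_iff _ (IsFractionRing.injective A K)).2 ha
      have h2 : b * φ c = 1 := hj (by rw [map_one]; exact mul_right_cancel₀ ha' h1)
      have hc' : IsUnit c := IsUnit.of_map φ c (IsUnit.of_mul_eq_one_right _ h2)
      obtain ⟨u, rfl⟩ := hc'
      refine ⟨↑u⁻¹, ?_⟩
      calc φ ↑u⁻¹ = b * φ ↑u * φ ↑u⁻¹ := by rw [h2, one_mul]
        _ = b := by rw [mul_assoc, ← map_mul, Units.mul_inv, map_one, mul_one]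
  · -- `s * c = a`
    refine ⟨c, hj ?_⟩
    have hs' : j (φ s) ≠ 0 := by
      rw [← hcomm, map_ne_zero]
      exact (map_ne_zero_iff _ (IsFractionRing.injective A K)).2 hs0
    apply mul_right_cancel₀ hs'
    rw [hL, ← map_mul, ← map_mul, mul_comm, hc]

theorem quasiFinite_of_surjective {A B : Type u} [CommRing A] [CommRing B] (φ : A →+* B)
    (h : Function.Surjective φ) : φ.QuasiFinite := by
  algebraize [φ]
  exact Algebra.QuasiFinite.of_surjective_algHom (Algebra.ofId A B) h

/-- A proper birational morphism to a normal scheme is an isomorphism near every point of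
codimension at most one. -/
theorem exists_nhd_isIso_of_ringKrullDim_le_one {X Y : Scheme.{u}} [IsIntegral X] [IsIntegral Y]
    [IsLocallyNoetherian Y] (f : X ⟶ Y) [IsProper f]
    (hξ : f (genericPoint X) = genericPoint Y) (hbir : Function.Bijective (f.stalkMap (genericPoint X)))
    (y : Y) (hy : IsIntegrallyClosed (Y.presheaf.stalk y))
    (hdim : ringKrullDim (Y.presheaf.stalk y) ≤ 1) :
    ∃ V : Y.Opens, y ∈ V ∧ IsIso (f ∣_ V) := by
  obtain ⟨x, rfl⟩ : ∃ x, f x = y := by
    have : Set.range f = Set.univ := by
      refine Set.eq_univ_of_forall fun z ↦ ?_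
      have h1 : genericPoint Y ∈ Set.range f := ⟨_, hξ⟩
      exact ((genericPoint_spec Y).mem_closed_set_iff f.isClosedMap.isClosed_range).1
        h1 (Set.mem_univ z)
    exact Set.range_eq_univ.1 this y
  haveI := valuationRing_of_dim_le_one (Y.presheaf.stalk (f x)) hdim
  have hsx := X.presheaf.stalkSpecializes (genericPoint_specializes x)
  let ψ : Y.functionField →+* X.functionField :=
    (f.stalkMap (genericPoint X)).hom.comp (Y.presheaf.stalkSpecializes (Inseparable.of_eq hξ).specializes).hom
  have hψ : Function.Surjective ψ := by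
    intro k
    obtain ⟨l, rfl⟩ := hbir.2 k
    refine ⟨Y.presheaf.stalkSpecializes (Inseparable.of_eq hξ).symm.specializes l, ?_⟩
    simp [ψ, ← ConcreteCategory.comp_apply]
  have hsurj : Function.Surjective (f.stalkMap x).hom := by
    refine surjective_of_valuationRing (f.stalkMap x).hom (algebraMap (X.presheaf.stalk x) X.functionField)
      (IsFractionRing.injective _ _) ψ hψ fun a ↦ ?_
    change f.stalkMap (genericPoint X) (Y.presheaf.stalkSpecializes _
      (Y.presheaf.stalkSpecializes (genericPoint_specializes (f x)) a)) =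
      X.presheaf.stalkSpecializes (genericPoint_specializes x) (f.stalkMap x a)
    rw [← Scheme.Hom.stalkSpecializes_stalkMap_apply]
    congr 1
    rw [← ConcreteCategory.comp_apply, TopCat.Presheaf.stalkSpecializes_comp]
  exact ZMTBir.exists_isIso_morphismRestrict f hbir x
    (quasiFinite_of_surjective _ hsurj) hy

end Groth.Agent.BirQF
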