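import Groth.Agent.BirQF.Basic
import Groth.Agent.ConnDiv.Normality

/-!
Fibres of birational morphisms of curves; normality of smooth schemes over a field.
-/

set_option autoImplicit false
set_option linter.style.haveILetI false
universe u

open CategoryTheory AlgebraicGeometry TopologicalSpace

namespace Groth.Agent.BirQF

/-- A birational morphism from a Noetherian integral scheme of dimension at most one has finite
fibres. -/
theorem finite_fibre_of_dim_le_one {X Y : Scheme.{u}} [IsIntegral X] [IrreducibleSpace Y]
    [IsNoetherian X] (f : X ⟶ Y) (hX : topologicalKrullDim X ≤ 1) (hY : topologicalKrullDim Y ≤ 1)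
    (hξ : f (genericPoint X) = genericPoint Y)
    (hbir : Function.Surjective (f.stalkMap (genericPoint X))) (y : Y) : (f.base ⁻¹' {y}).Finite := by
  by_cases hy : y = genericPoint Y
  · refine (Set.finite_singleton (genericPoint X)).subset fun a ha => ?_
    exact (SpreadFP.eq_of_specializes_of_surjective_stalkMap f (genericPoint_specializes a)
      (hξ.trans (hy.symm.trans (Set.mem_singleton_iff.1 ha).symm)) hbir).symm
  · have hyc : IsClosed ({y} : Set Y) := by
      rw [isClosed_iff_clusterPt]
      intro q hq
      exact (eq_of_specializes_of_dim_le_one hY hy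
        (specializes_iff_mem_closure.2 (mem_closure_iff_clusterPt.2 hq))).symm
    have hne : genericPoint X ∉ f ⁻¹' {y} := fun h => hy (h.symm.trans hξ)
    obtain ⟨T, hTfin, hTc, hTi, hT⟩ :=
      NoetherianSpace.exists_finite_set_isClosed_irreducible (hyc.preimage f.continuous)
    rw [show (f.base ⁻¹' {y}) = ⋃₀ T from hT]
    refine hTfin.sUnion fun t ht => ?_
    obtain ⟨g, hg⟩ := QuasiSober.sober (hTi t ht) (hTc t ht)
    refine (Set.finite_singleton g).subset fun a ha => ?_
    have hga : g ⤳ a := specializes_iff_mem_closure.2 (hg.def.symm ▸ ha)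
    have hgt : g ∈ t := hg.def ▸ subset_closure rfl
    refine (eq_of_specializes_of_dim_le_one hX (fun h => hne ?_) hga).symm
    rw [← h]
    exact hT.symm ▸ ⟨t, ht, hgt⟩

/-- Local rings of a smooth scheme over a field are integrally closed. -/
theorem isIntegrallyClosed_stalk_of_smooth {L : Type u} [Field L] {X : Scheme.{u}}
    (f : X ⟶ Spec (CommRingCat.of L)) [Smooth f] (x : X) :
    IsIntegrallyClosed (X.presheaf.stalk x) := by
  obtain ⟨V, hV, hxV, -⟩ := exists_isAffineOpen_mem_and_subset (Opens.mem_top x : x ∈ (⊤ : X.Opens))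
  haveI := ConnDiv.isRegularRing_of_smooth f hV
  let q := (hV.primeIdealOf ⟨x, hxV⟩).asIdeal
  letI := TopCat.Presheaf.algebra_section_stalk X.presheaf (⟨x, hxV⟩ : V)
  haveI : IsLocalization.AtPrime (X.presheaf.stalk x) q := hV.isLocalization_stalk ⟨x, hxV⟩
  let e := IsLocalization.algEquiv q.primeCompl (Localization.AtPrime q) (X.presheaf.stalk x)
  obtain ⟨-, h2⟩ := FlatAscent.isNormalRing_of_isRegularRing (R := Γ(X, V)) q
  exact IsIntegrallyClosed.of_equiv e.toRingEquiv

end Groth.Agent.BirQF
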