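import Groth.Agent.BirQF.Basic
import Groth.Agent.DimInequality.Scheme
import Groth.Agent.FibreTrdeg.Basic

/-!
Fibres of birational morphisms over points of codimension at most one are finite.
-/

set_option autoImplicit false
set_option linter.style.haveILetI false
universe u

open CategoryTheory AlgebraicGeometry TopologicalSpace

namespace Groth.Agent.BirQF

/-- Local rings of dimension at most one have no chains of length two of generizations. -/
theorem eq_of_specializes_of_stalk_dim_le_one {X : Scheme.{u}} [IrreducibleSpace X] {p q : X}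
    (h : ringKrullDim (X.presheaf.stalk q) ≤ 1) (hp : p ≠ genericPoint X) (hpq : p ⤳ q) : p = q := by
  have hemb := (X.fromSpecStalk q).isEmbedding
  obtain ⟨P', rfl⟩ := (Set.ext_iff.1 Scheme.range_fromSpecStalk p).2 hpq
  obtain ⟨G', hG⟩ := (Set.ext_iff.1 Scheme.range_fromSpecStalk (genericPoint X)).2 (genericPoint_specializes q)
  let P : PrimeSpectrum (X.presheaf.stalk q) := P'
  let G : PrimeSpectrum (X.presheaf.stalk q) := G'
  let M : PrimeSpectrum (X.presheaf.stalk q) := IsLocalRing.closedPoint _
  by_contra hne
  have h1 : G < P := lt_of_le_of_ne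
    ((PrimeSpectrum.le_iff_specializes _ _).2 ((show G' ⤳ P' from hemb.isInducing.specializes_iff.1 (hG ▸ genericPoint_specializes _))))
    (fun (he : G = P) => hp (by rw [show P' = G' from he.symm]; exact hG))
  have h2 : P < M := lt_of_le_of_ne (show P ≤ M from IsLocalRing.le_maximalIdeal P.2.ne_top)
    (fun (he : P = M) => hne (by rw [show P' = M from he]; exact Scheme.fromSpecStalk_closedPoint))
  let s : LTSeries (PrimeSpectrum (X.presheaf.stalk q)) :=
    ((RelSeries.singleton _ G).snoc P h1).snoc M (by simp only [RelSeries.last_snoc]; exact h2)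
  have h3 : (s.length : WithBot ℕ∞) ≤ ringKrullDim (X.presheaf.stalk q) := Order.LTSeries.length_le_krullDim s
  have h4 := h3.trans h
  simp [s] at h4

/-- The transcendence degree of a surjective field map is zero. -/
theorem trdeg_eq_zero_of_surjective {K L : Type u} [Field K] [Field L] (φ : K →+* L)
    (h : Function.Surjective φ) : (letI := φ.toAlgebra; Algebra.trdeg K L) = 0 := by
  letI := φ.toAlgebra
  haveI : Algebra.IsAlgebraic K L := ⟨fun z => by
    obtain ⟨a, rfl⟩ := h z
    exact isAlgebraic_algebraMap a⟩
  exact trdeg_eq_zero

/-- The fibre of a birational morphism of finite type over a point of codimension at most one is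
finite. -/
theorem finite_fibre_of_ringKrullDim_le_one {X Y : Scheme.{u}} [IsIntegral X] [IsIntegral Y]
    [IsLocallyNoetherian Y] (f : X ⟶ Y) [LocallyOfFiniteType f] [QuasiCompact f]
    (hξ : f (genericPoint X) = genericPoint Y)
    (hbir : Function.Bijective (f.stalkMap (genericPoint X)))
    (y : Y) (hy : ringKrullDim (Y.presheaf.stalk y) ≤ 1) : (f ⁻¹' {y}).Finite := by
  have hres : Function.Surjective (f.residueFieldMap (genericPoint X)) := by
    intro z
    obtain ⟨a, rfl⟩ := X.residue_surjective _ z
    obtain ⟨b, rfl⟩ := hbir.2 a
    exact ⟨Y.residue _ b, ConcreteCategory.congr_hom (Scheme.residue_residueFieldMap f (genericPoint X)) b⟩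
  have hdimX : ∀ x, f x = y → ringKrullDim (X.presheaf.stalk x) ≤ 1 := by
    intro x hx
    obtain ⟨n, hn, -⟩ := FibreTrdeg.exists_trdeg_fibre f (f x) (f.asFiber x)
    have hn' : (letI := (f.residueFieldMap x).hom.toAlgebra
        Algebra.trdeg (Y.residueField (f x)) (X.residueField x)) = n := by
      have key : ∀ z : X, z = x → (letI := (f.residueFieldMap z).hom.toAlgebra
          Algebra.trdeg (Y.residueField (f z)) (X.residueField z)) = n →
          (letI := (f.residueFieldMap x).hom.toAlgebra
          Algebra.trdeg (Y.residueField (f x)) (X.residueField x)) = n := by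
        rintro z rfl h; exact h
      exact key _ (f.fiberι_asFiber x) hn
    have h1 := DimInequality.stalk_dimension_inequality f x n 0 hn' (fun ξ hξ' _ => by
      obtain rfl : ξ = genericPoint X :=
        (SpreadFP.eq_of_gens_specializes hξ' (genericPoint_specializes ξ)).symm
      rw [Nat.cast_zero, trdeg_eq_zero_of_surjective (f.residueFieldMap (genericPoint X)).hom hres])
    subst hx
    calc ringKrullDim (X.presheaf.stalk x) ≤ ringKrullDim (X.presheaf.stalk x) + n := by
          exact le_add_of_nonneg_right (by exact_mod_cast Nat.zero_le n)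
      _ ≤ ringKrullDim (Y.presheaf.stalk (f x)) + (0 : ℕ) := h1
      _ ≤ 1 := by simpa using hy
  by_cases hyη : y = genericPoint Y
  · refine (Set.finite_singleton (genericPoint X)).subset fun a ha => ?_
    exact (SpreadFP.eq_of_specializes_of_surjective_stalkMap f (genericPoint_specializes a)
      (hξ.trans (hyη.symm.trans (Set.mem_singleton_iff.1 ha).symm)) hbir.2).symm
  · -- all points of the fibre are closed in it
    haveI : LocallyOfFiniteType (f.fiberToSpecResidueField y) :=
      MorphismProperty.of_isPullback (IsPullback.of_hasPullback f (Y.fromSpecResidueField y)) ‹LocallyOfFiniteType f›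
    haveI : QuasiCompact (f.fiberToSpecResidueField y) :=
      MorphismProperty.of_isPullback (IsPullback.of_hasPullback f (Y.fromSpecResidueField y)) ‹QuasiCompact f›
    haveI : IsLocallyNoetherian (f.fiber y) := LocallyOfFiniteType.isLocallyNoetherian (f.fiberToSpecResidueField y)
    haveI : CompactSpace (f.fiber y) := QuasiCompact.compactSpace_of_compactSpace (f.fiberToSpecResidueField y)
    haveI : IsNoetherian (f.fiber y) := { }
    haveI : Finite (f.fiber y) := by
      refine Set.finite_univ_iff.1 ?_
      obtain ⟨T, hTfin, hTc, hTi, hT⟩ :=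
        NoetherianSpace.exists_finite_set_isClosed_irreducible (isClosed_univ (X := f.fiber y))
      rw [hT]
      refine hTfin.sUnion fun t ht => ?_
      obtain ⟨g, hg⟩ := QuasiSober.sober (hTi t ht) (hTc t ht)
      refine (Set.finite_singleton g).subset fun a ha => ?_
      have hga : f.fiberι y g ⤳ f.fiberι y a :=
        (specializes_iff_mem_closure.2 (hg.def.symm ▸ ha)).map (f.fiberι y).continuous
      have hmem : ∀ b : f.fiber y, f (f.fiberι y b) = y := fun b => (f.fiberHomeo y b).2
      refine ((f.fiberι y).isEmbedding.injective
        (eq_of_specializes_of_stalk_dim_le_one (hdimX _ (hmem a)) (fun h => hyη ?_) hga)).symm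
      rw [← hmem g, h, hξ]
    exact Set.finite_coe_iff.1 (Finite.of_equiv _ (f.fiberHomeo y).toEquiv)

end Groth.Agent.BirQF
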